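import Cfsg.Agent.Helper95.Cyc3

/-!
# The alternating group on a subset, inside `Perm α`

`altOn C` is the group of even permutations of `α` supported on the finset `C`. For a subgroup
`H ≤ Perm α` and a class `C = cls3 H a`, `altOn C ≤ H` and `altOn C` is normalised by the subgroup
generated by all 3-cycles of `H`, which is normal in `H`: so `altOn C` is subnormal in `H`.
-/

set_option autoImplicit false
set_option linter.unusedSectionVars false

namespace Cfsg.Agent.Helper95

open Equiv Equiv.Perm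

section general

variable {G : Type*} [Group G]

theorem conj_mem_closure_of_conj_mem {S : Set G} {h : G} (hS : ∀ s ∈ S, h * s * h⁻¹ ∈ S) {g : G}
    (hg : g ∈ Subgroup.closure S) : h * g * h⁻¹ ∈ Subgroup.closure S := by
  induction hg using Subgroup.closure_induction with
  | mem x hx => exact Subgroup.subset_closure (hS x hx)
  | one => simp
  | mul x y _ _ hx hy =>
    have : h * (x * y) * h⁻¹ = (h * x * h⁻¹) * (h * y * h⁻¹) := by group
    rw [this]
    exact Subgroup.mul_mem _ hx hy
  | inv x _ hx =>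
    have : h * x⁻¹ * h⁻¹ = (h * x * h⁻¹)⁻¹ := by group
    rw [this]
    exact Subgroup.inv_mem _ hx

theorem mem_normalizer_closure_of_conj_mem {S : Set G} {h : G}
    (hS : ∀ s ∈ S, h * s * h⁻¹ ∈ S) (hS' : ∀ s ∈ S, h⁻¹ * s * h⁻¹⁻¹ ∈ S) :
    h ∈ Subgroup.normalizer (Subgroup.closure S : Set G) := by
  rw [Subgroup.mem_normalizer_iff]
  intro g
  constructor
  · exact fun hg => conj_mem_closure_of_conj_mem hS hg
  · intro hg
    have := conj_mem_closure_of_conj_mem hS' hg
    have e : h⁻¹ * (h * g * h⁻¹) * h⁻¹⁻¹ = g := by group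
    rwa [e] at this

/-- A chain `A ⊴ N ⊴ H` makes `A` subnormal in `H`. -/
theorem isSubnormal_subgroupOf_of_chain {A N H : Subgroup G} (hAN : A ≤ N) (hNH : N ≤ H)
    (h1 : N ≤ Subgroup.normalizer (A : Set G)) (h2 : H ≤ Subgroup.normalizer (N : Set G)) :
    (A.subgroupOf H).IsSubnormal := by
  have hN : (N.subgroupOf H).Normal := (Subgroup.normal_subgroupOf_iff_le_normalizer hNH).mpr h2
  refine Subgroup.IsSubnormal.step (A.subgroupOf H) (N.subgroupOf H) ?_ hN.isSubnormal ?_
  · intro x hx
    rw [Subgroup.mem_subgroupOf] at hx ⊢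
    exact hAN hx
  · constructor
    intro n hn g
    rw [Subgroup.mem_subgroupOf, Subgroup.mem_subgroupOf] at hn ⊢
    have hg : ((g : H) : G) ∈ N := by
      have := g.2
      rwa [Subgroup.mem_subgroupOf] at this
    have := (Subgroup.mem_normalizer_iff.mp (h1 hg) _).mp hn
    simpa using this

end general

variable {α : Type*} [DecidableEq α] [Fintype α]

/-- The group of even permutations of `α` supported on the finset `C`. -/
noncomputable def altOn (C : Finset α) : Subgroup (Perm α) :=
  (alternatingGroup {x // x ∈ C}).map (ofSubtype : Perm {x // x ∈ C} →* Perm α)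

theorem altOn_apply_of_not_mem {C : Finset α} {g : Perm α} (hg : g ∈ altOn C) {x : α}
    (hx : x ∉ C) : g x = x := by
  obtain ⟨σ, -, rfl⟩ := hg
  exact ofSubtype_apply_of_not_mem σ hx

theorem ofSubtype_cyc3 {C : Finset α} (a b c : {x // x ∈ C}) :
    (ofSubtype : Perm {x // x ∈ C} →* Perm α) (cyc3 a b c) = cyc3 (a : α) b c := by
  unfold cyc3
  rw [map_mul, ofSubtype_swap_eq, ofSubtype_swap_eq]

theorem cyc3_mem_altOn {C : Finset α} {x y z : α} (hx : x ∈ C) (hy : y ∈ C) (hz : z ∈ C)
    (hxy : x ≠ y) (hxz : x ≠ z) (hyz : y ≠ z) : cyc3 x y z ∈ altOn C := by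
  refine ⟨cyc3 ⟨x, hx⟩ ⟨y, hy⟩ ⟨z, hz⟩, ?_, ofSubtype_cyc3 _ _ _⟩
  apply IsThreeCycle.mem_alternatingGroup
  apply isThreeCycle_cyc3
  · exact fun e => hxy (congrArg Subtype.val e)
  · exact fun e => hxz (congrArg Subtype.val e)
  · exact fun e => hyz (congrArg Subtype.val e)

theorem altOn_le {C : Finset α} {K : Subgroup (Perm α)}
    (h : ∀ x ∈ C, ∀ y ∈ C, ∀ z ∈ C, x ≠ y → x ≠ z → y ≠ z → cyc3 x y z ∈ K) : altOn C ≤ K := by
  unfold altOn
  rw [← closure_three_cycles_eq_alternating, MonoidHom.map_closure, Subgroup.closure_le]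
  rintro _ ⟨σ, hσ, rfl⟩
  have hσ' : σ.IsThreeCycle := hσ
  have hne : σ.support.Nonempty := by
    rw [← Finset.card_pos, hσ'.card_support]; norm_num
  obtain ⟨a, ha⟩ := hne
  rw [mem_support] at ha
  obtain ⟨e, h1, h2, h3⟩ := IsThreeCycle.eq_cyc3 hσ' ha
  rw [e, ofSubtype_cyc3]
  exact h _ a.2 _ (σ a).2 _ (σ (σ a)).2 (fun e => h1 (Subtype.ext e)) (fun e => h2 (Subtype.ext e))
    (fun e => h3 (Subtype.ext e))

theorem cyc3_commute_of_not_mem {C : Finset α} {x y z : α} (hx : x ∉ C) (hy : y ∉ C) (hz : z ∉ C)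
    {g : Perm α} (hg : g ∈ altOn C) : Commute (cyc3 x y z) g := by
  apply Disjoint.commute
  intro p
  by_cases hp : p ∈ C
  · left
    exact cyc3_apply_of_ne (fun e => hx (e ▸ hp)) (fun e => hy (e ▸ hp)) (fun e => hz (e ▸ hp))
  · right
    exact altOn_apply_of_not_mem hg hp

/-- The symmetric group on four letters is solvable. -/
theorem perm_fin4_isSolvable : Group.IsSolvable (Perm (Fin 4)) := by
  have hA : Group.IsSolvable (alternatingGroup (Fin 4)) := by
    have h4 : Nat.card (Fin 4) = 4 := by simp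
    have hk := alternatingGroup.kleinFour_eq_commutator (α := Fin 4) h4
    have hkl := alternatingGroup.kleinFour_isKleinFour (α := Fin 4) h4
    refine ⟨⟨2, ?_⟩⟩
    rw [derivedSeries_succ, derivedSeries_one, ← hk, Subgroup.commutator_eq_bot_iff_le_centralizer]
    intro x hx y hy
    have hc := mul_comm_of_exponent_two hkl.exponent_two
      (⟨y, hy⟩ : alternatingGroup.kleinFour (Fin 4)) ⟨x, hx⟩
    exact congrArg Subtype.val hc
  exact Group.isSolvable_of_ker_le_range (alternatingGroup (Fin 4)).subtype Perm.sign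
    (by rw [Subgroup.range_subtype]; exact le_rfl)

theorem perm_isSolvable_of_card_le_four (β : Type*) [Fintype β] [DecidableEq β]
    (h : Fintype.card β ≤ 4) : Group.IsSolvable (Perm β) := by
  obtain ⟨ι⟩ : Nonempty (β ↪ Fin 4) := Function.Embedding.nonempty_of_card_le (by simpa using h)
  have := perm_fin4_isSolvable
  exact Group.isSolvable_of_isSolvable_injective (Equiv.Perm.viaEmbeddingHom_injective ι)

theorem altOn_isSolvable {C : Finset α} (h : C.card ≤ 4) : Group.IsSolvable (altOn C) := by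
  have h1 : Group.IsSolvable (Perm {x // x ∈ C}) :=
    perm_isSolvable_of_card_le_four _ (by simpa using h)
  have h2 : Group.IsSolvable (alternatingGroup {x // x ∈ C}) :=
    Group.isSolvable_of_isSolvable_injective (Subgroup.subtype_injective _)
  unfold altOn
  exact Group.isSolvable_of_surjective
    (f := ((ofSubtype : Perm {x // x ∈ C} →* Perm α).subgroupMap (alternatingGroup {x // x ∈ C})))
    (MonoidHom.subgroupMap_surjective _ _)

theorem alternatingGroup_coe_isSimple {C : Finset α} (h : 5 ≤ C.card) :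
    IsSimpleGroup (alternatingGroup {x // x ∈ C}) := by
  apply alternatingGroup.isSimpleGroup
  rw [Nat.card_eq_fintype_card, Fintype.card_coe]
  exact h

/-- `altOn C` is isomorphic to the alternating group of degree `#C`. -/
noncomputable def altOnEquiv (C : Finset α) : altOn C ≃* alternatingGroup (Fin C.card) :=
  (Subgroup.equivMapOfInjective (alternatingGroup {x // x ∈ C})
    (ofSubtype : Perm {x // x ∈ C} →* Perm α) ofSubtype_injective).symm.trans
    (Equiv.altCongrHom C.equivFin)

/-! ### Classes of a permutation group -/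

/-- The subgroup generated by the 3-cycles of `H`. -/
def threeGen (H : Subgroup (Perm α)) : Subgroup (Perm α) :=
  Subgroup.closure {c | c ∈ H ∧ c.IsThreeCycle}

theorem threeGen_le (H : Subgroup (Perm α)) : threeGen H ≤ H := by
  unfold threeGen
  rw [Subgroup.closure_le]
  exact fun c hc => hc.1

theorem le_normalizer_threeGen (H : Subgroup (Perm α)) :
    H ≤ Subgroup.normalizer (threeGen H : Set (Perm α)) := by
  intro h hh
  have key : ∀ k ∈ H, ∀ s ∈ {c : Perm α | c ∈ H ∧ c.IsThreeCycle},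
      k * s * k⁻¹ ∈ {c : Perm α | c ∈ H ∧ c.IsThreeCycle} := by
    rintro k hk s ⟨hs, hs3⟩
    refine ⟨H.mul_mem (H.mul_mem hk hs) (H.inv_mem hk), ?_⟩
    show (k * s * k⁻¹).cycleType = {3}
    rw [cycleType_conj]
    exact hs3
  exact mem_normalizer_closure_of_conj_mem (key h hh) (key h⁻¹ (H.inv_mem hh))

theorem altOn_cls3_le (H : Subgroup (Perm α)) (a : α) : altOn (cls3 H a) ≤ H :=
  altOn_le fun _ hx _ hy _ hz hxy hxz hyz => (has3_of_mem_cls3 hx hy hz hxy hxz hyz).2.2.2

theorem altOn_cls3_le_threeGen (H : Subgroup (Perm α)) (a : α) :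
    altOn (cls3 H a) ≤ threeGen H :=
  altOn_le fun _ hx _ hy _ hz hxy hxz hyz =>
    Subgroup.subset_closure ⟨(has3_of_mem_cls3 hx hy hz hxy hxz hyz).2.2.2,
      isThreeCycle_cyc3 hxy hxz hyz⟩

/-- A 3-cycle of `H` lies in `altOn C` or commutes with it, for a class `C`. -/
theorem has3_mem_altOn_or_commute {H : Subgroup (Perm α)} (a : α) {x y z : α}
    (h : Has3 H x y z) :
    (x ∈ cls3 H a ∧ y ∈ cls3 H a ∧ z ∈ cls3 H a ∧ cyc3 x y z ∈ altOn (cls3 H a)) ∨
      (x ∉ cls3 H a ∧ ∀ g ∈ altOn (cls3 H a), Commute (cyc3 x y z) g) := by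
  by_cases hx : x ∈ cls3 H a
  · left
    have hy := mem_cls3_of_has3 h hx
    have hz := mem_cls3_of_has3' h hx
    exact ⟨hx, hy, hz, cyc3_mem_altOn hx hy hz h.1 h.2.1 h.2.2.1⟩
  · right
    refine ⟨hx, fun g hg => cyc3_commute_of_not_mem hx ?_ ?_ hg⟩
    · exact fun hy => hx (mem_cls3_of_has3' h.rot hy)
    · exact fun hz => hx (mem_cls3_of_has3 h.rot.rot hz)

theorem threeGen_le_normalizer_altOn (H : Subgroup (Perm α)) (a : α) :
    threeGen H ≤ Subgroup.normalizer (altOn (cls3 H a) : Set (Perm α)) := by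
  unfold threeGen
  rw [Subgroup.closure_le]
  rintro c ⟨hcH, hc3⟩
  have hne : c.support.Nonempty := by
    rw [← Finset.card_pos, hc3.card_support]; norm_num
  obtain ⟨p, hp⟩ := hne
  rw [mem_support] at hp
  obtain ⟨e, h1, h2, h3⟩ := IsThreeCycle.eq_cyc3 hc3 hp
  have hhas : Has3 H p (c p) (c (c p)) := ⟨h1, h2, h3, e ▸ hcH⟩
  rcases has3_mem_altOn_or_commute a hhas with ⟨-, -, -, hm⟩ | ⟨-, hcomm⟩
  · rw [← e] at hm
    exact Subgroup.le_normalizer hm
  · rw [← e] at hcomm
    rw [SetLike.mem_coe, Subgroup.mem_normalizer_iff]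
    intro g
    constructor
    · intro hg
      have := (hcomm g hg).eq
      rw [this, mul_inv_cancel_right]
      exact hg
    · intro hg
      have := (hcomm _ hg).eq
      have e2 : g = c * g * c⁻¹ := by
        have h5 : c * (c * g * c⁻¹) = c * g := by
          rw [this]; group
        exact (mul_left_cancel h5).symm ▸ rfl
      rw [e2]
      exact hg

/-- `altOn` of a class of `H` is subnormal in `H`. -/
theorem altOn_cls3_isSubnormal (H : Subgroup (Perm α)) (a : α) :
    ((altOn (cls3 H a)).subgroupOf H).IsSubnormal :=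
  isSubnormal_subgroupOf_of_chain (altOn_cls3_le_threeGen H a) (threeGen_le H)
    (threeGen_le_normalizer_altOn H a) (le_normalizer_threeGen H)

end Cfsg.Agent.Helper95
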