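import Mathlib

/-!
# Three-cycles: `cyc3`, closure properties of the 3-cycles of a permutation group

`cyc3 a b c` is the 3-cycle `a → b → c → a`. For a subgroup `K` of `Perm α`, `Has3 K a b c`
says that `a, b, c` are distinct and `cyc3 a b c ∈ K`. The key lemma `Has3.trans` shows that
"lying in a common 3-cycle of `K`" is a transitive relation, and that `K` contains every 3-cycle
on each of its classes.
-/

set_option autoImplicit false

namespace Cfsg.Agent.Helper95

open Equiv Equiv.Perm

variable {α : Type*} [DecidableEq α]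

/-- The 3-cycle `a → b → c → a`. -/
def cyc3 (a b c : α) : Perm α := swap a b * swap b c

theorem cyc3_apply_left {a b c : α} (hab : a ≠ b) (hac : a ≠ c) : cyc3 a b c a = b := by
  simp [cyc3, swap_apply_of_ne_of_ne hab hac]

theorem cyc3_apply_mid {a b c : α} (hac : a ≠ c) (hbc : b ≠ c) : cyc3 a b c b = c := by
  simp [cyc3, swap_apply_of_ne_of_ne hac.symm hbc.symm]

theorem cyc3_apply_right {a b c : α} : cyc3 a b c c = a := by
  simp [cyc3]

theorem cyc3_apply_of_ne {a b c x : α} (hxa : x ≠ a) (hxb : x ≠ b) (hxc : x ≠ c) :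
    cyc3 a b c x = x := by
  simp [cyc3, swap_apply_of_ne_of_ne hxb hxc, swap_apply_of_ne_of_ne hxa hxb]

theorem conj_cyc3 (g : Perm α) (a b c : α) :
    g * cyc3 a b c * g⁻¹ = cyc3 (g a) (g b) (g c) := by
  unfold cyc3
  rw [swap_apply_apply, swap_apply_apply]
  group

theorem cyc3_inv (a b c : α) : (cyc3 a b c)⁻¹ = cyc3 c b a := by
  unfold cyc3
  rw [mul_inv_rev, swap_inv, swap_inv, swap_comm b c, swap_comm a b]

theorem cyc3_rot {a b c : α} (hab : a ≠ b) (hac : a ≠ c) (hbc : b ≠ c) :
    cyc3 a b c = cyc3 b c a := by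
  ext x
  by_cases hxa : x = a
  · subst hxa
    rw [cyc3_apply_left hab hac, cyc3_apply_right]
  by_cases hxb : x = b
  · subst hxb
    rw [cyc3_apply_mid hac hbc, cyc3_apply_left hbc hab.symm]
  by_cases hxc : x = c
  · subst hxc
    rw [cyc3_apply_right, cyc3_apply_mid hab.symm hac.symm]
  rw [cyc3_apply_of_ne hxa hxb hxc, cyc3_apply_of_ne hxb hxc hxa]

theorem isThreeCycle_cyc3 {a b c : α} [Fintype α] (hab : a ≠ b) (hac : a ≠ c) (hbc : b ≠ c) :
    (cyc3 a b c).IsThreeCycle := by
  unfold cyc3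
  rw [swap_comm a b]
  exact isThreeCycle_swap_mul_swap_same hab.symm hbc hac

/-- Normal form of a 3-cycle. -/
theorem IsThreeCycle.eq_cyc3 [Fintype α] {c : Perm α} (hc : c.IsThreeCycle) {a : α}
    (ha : c a ≠ a) : c = cyc3 a (c a) (c (c a)) ∧ a ≠ c a ∧ a ≠ c (c a) ∧ c a ≠ c (c a) := by
  have h3 : c (c (c a)) = a := by
    have := hc.orderOf
    have h := pow_orderOf_eq_one c
    rw [this] at h
    have := congrArg (fun f : Perm α => f a) h
    simpa [pow_succ, pow_zero] using this
  have h1 : a ≠ c a := fun h => ha h.symm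
  have h2 : c a ≠ c (c a) := fun h => h1 (c.injective h)
  have h4 : a ≠ c (c a) := by
    intro h
    apply h1
    have : c a = c (c (c a)) := congrArg c h
    rw [h3] at this
    exact this.symm
  refine ⟨?_, h1, h4, h2⟩
  have hsupp : c.support = {a, c a, c (c a)} := by
    symm
    apply Finset.eq_of_subset_of_card_le
    · intro x hx
      simp only [Finset.mem_insert, Finset.mem_singleton] at hx
      rw [mem_support]
      rcases hx with rfl | rfl | rfl
      · exact ha
      · exact fun h => ha (c.injective h)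
      · exact fun h => ha (c.injective (c.injective h))
    · rw [hc.card_support, Finset.card_insert_of_notMem, Finset.card_insert_of_notMem,
        Finset.card_singleton]
      · simpa using h2
      · simp only [Finset.mem_insert, Finset.mem_singleton, not_or]
        exact ⟨h1, h4⟩
  ext x
  by_cases hxa : x = a
  · subst hxa
    rw [cyc3_apply_left h1 h4]
  by_cases hxb : x = c a
  · subst hxb
    rw [cyc3_apply_mid h4 h2]
  by_cases hxc : x = c (c a)
  · subst hxc
    rw [cyc3_apply_right, h3]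
  rw [cyc3_apply_of_ne hxa hxb hxc]
  have : x ∉ c.support := by
    rw [hsupp]
    simp only [Finset.mem_insert, Finset.mem_singleton, not_or]
    exact ⟨hxa, hxb, hxc⟩
  simpa [mem_support] using this

/-- `a, b, c` are distinct and the 3-cycle `(a b c)` lies in `K`. -/
def Has3 (K : Subgroup (Perm α)) (a b c : α) : Prop :=
  a ≠ b ∧ a ≠ c ∧ b ≠ c ∧ cyc3 a b c ∈ K

theorem Has3.rot {K : Subgroup (Perm α)} {a b c : α} (h : Has3 K a b c) : Has3 K b c a := by
  obtain ⟨hab, hac, hbc, hm⟩ := h
  exact ⟨hbc, hab.symm, hac.symm, by rwa [← cyc3_rot hab hac hbc]⟩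

theorem Has3.inv {K : Subgroup (Perm α)} {a b c : α} (h : Has3 K a b c) : Has3 K c b a := by
  obtain ⟨hab, hac, hbc, hm⟩ := h
  exact ⟨hbc.symm, hac.symm, hab.symm, by rw [← cyc3_inv]; exact K.inv_mem hm⟩

theorem Has3.swap23 {K : Subgroup (Perm α)} {a b c : α} (h : Has3 K a b c) : Has3 K a c b :=
  h.inv.rot.rot

theorem Has3.swap12 {K : Subgroup (Perm α)} {a b c : α} (h : Has3 K a b c) : Has3 K b a c :=
  h.inv.rot

theorem Has3.conj {K : Subgroup (Perm α)} {a b c : α} (h : Has3 K a b c) {g : Perm α}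
    (hg : g ∈ K) : Has3 K (g a) (g b) (g c) := by
  obtain ⟨hab, hac, hbc, hm⟩ := h
  refine ⟨fun e => hab (g.injective e), fun e => hac (g.injective e),
    fun e => hbc (g.injective e), ?_⟩
  rw [← conj_cyc3]
  exact K.mul_mem (K.mul_mem hg hm) (K.inv_mem hg)

/-- Two 3-cycles of `K` sharing exactly two points: `K` contains the 3-cycles on the other
triples of the four points. -/
theorem Has3.four {K : Subgroup (Perm α)} {a b c d : α} (h1 : Has3 K a b c) (h2 : Has3 K a b d)
    (hcd : c ≠ d) : Has3 K a c d := by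
  -- conjugate `(a b c)` by the inverse of `(a b d)`, that is by `(d b a)`
  have hg : cyc3 d b a ∈ K := h2.inv.2.2.2
  have := h1.conj hg
  obtain ⟨hab, hac, hbc, -⟩ := h1
  obtain ⟨-, had, hbd, -⟩ := h2
  rw [cyc3_apply_right, cyc3_apply_mid had.symm hab.symm,
    cyc3_apply_of_ne hcd hbc.symm hac.symm] at this
  -- `Has3 K d a c`
  exact this.rot

/-- Two 3-cycles of `K` sharing exactly one point. -/
theorem Has3.five {K : Subgroup (Perm α)} {a b c d e : α} (h1 : Has3 K a b c)
    (h2 : Has3 K c d e) (had : a ≠ d) (hae : a ≠ e) (hbd : b ≠ d) (hbe : b ≠ e) :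
    Has3 K a b d := by
  have := h1.conj h2.2.2.2
  obtain ⟨hab, hac, hbc, -⟩ := h1
  obtain ⟨hcd, hce, hde, -⟩ := h2
  rwa [cyc3_apply_of_ne hac had hae, cyc3_apply_of_ne hbc hbd hbe, cyc3_apply_left hcd hce]
    at this

/-- The key closure property: if `(x y u)` and `(y z v)` are 3-cycles of `K` and `x ≠ z`, then
`(x y z) ∈ K`. -/
theorem Has3.trans {K : Subgroup (Perm α)} {x y z u v : α} (h1 : Has3 K x y u)
    (h2 : Has3 K y z v) (hxz : x ≠ z) : Has3 K x y z := by
  by_cases hzu : z = u
  · subst hzu; exact h1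
  by_cases hvx : v = x
  · subst hvx; exact h2.rot.rot
  by_cases hvu : v = u
  · subst hvu
    -- `(y v x)` and `(y v z)` share `y, v`
    have h1' : Has3 K y v x := h1.rot
    have h2' : Has3 K y v z := h2.swap23
    exact (Has3.four h1' h2' hxz).swap12
  · -- five distinct points
    have h1' : Has3 K x u y := h1.swap23
    have hxuz : Has3 K x u z :=
      Has3.five h1' h2 hxz (fun e => hvx e.symm) (fun e => hzu e.symm) (fun e => hvu e.symm)
    exact Has3.four h1' hxuz h2.1

section classes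

variable [Fintype α]

open Classical in
/-- The class of `a`: the points lying with `a` in a common 3-cycle of `K` (and `a` itself). -/
noncomputable def cls3 (K : Subgroup (Perm α)) (a : α) : Finset α :=
  Finset.univ.filter fun x => x = a ∨ ∃ z, Has3 K a x z

theorem mem_cls3 {K : Subgroup (Perm α)} {a x : α} :
    x ∈ cls3 K a ↔ x = a ∨ ∃ z, Has3 K a x z := by
  unfold cls3
  simp

theorem self_mem_cls3 (K : Subgroup (Perm α)) (a : α) : a ∈ cls3 K a :=
  mem_cls3.mpr (Or.inl rfl)

theorem has3_of_mem_cls3_aux {K : Subgroup (Perm α)} {a x y : α} (hx : x ∈ cls3 K a)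
    (hy : y ∈ cls3 K a) (hxa : x ≠ a) (hya : y ≠ a) (hxy : x ≠ y) : Has3 K x a y := by
  rcases mem_cls3.mp hx with rfl | ⟨w, hw⟩
  · exact absurd rfl hxa
  rcases mem_cls3.mp hy with rfl | ⟨w', hw'⟩
  · exact absurd rfl hya
  exact Has3.trans hw.swap12 hw' hxy

/-- `K` contains every 3-cycle on a class. -/
theorem has3_of_mem_cls3 {K : Subgroup (Perm α)} {a x y z : α} (hx : x ∈ cls3 K a)
    (hy : y ∈ cls3 K a) (hz : z ∈ cls3 K a) (hxy : x ≠ y) (hxz : x ≠ z) (hyz : y ≠ z) :
    Has3 K x y z := by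
  by_cases hxa : x = a
  · subst hxa
    exact (has3_of_mem_cls3_aux hy hz hxy.symm hxz.symm hyz).swap12
  by_cases hya : y = a
  · subst hya
    exact has3_of_mem_cls3_aux hx hz hxa hyz.symm hxz
  by_cases hza : z = a
  · subst hza
    exact (has3_of_mem_cls3_aux hx hy hxa hya hxy).swap23
  have h1 : Has3 K x y a := (has3_of_mem_cls3_aux hx hy hxa hya hxy).swap23
  have h2 : Has3 K y z a := (has3_of_mem_cls3_aux hy hz hya hza hyz).swap23
  exact Has3.trans h1 h2 hxz

/-- A 3-cycle of `K` meeting a class lies inside it. -/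
theorem mem_cls3_of_has3 {K : Subgroup (Perm α)} {a x y z : α} (h : Has3 K x y z)
    (hx : x ∈ cls3 K a) : y ∈ cls3 K a := by
  rcases mem_cls3.mp hx with rfl | ⟨w, hw⟩
  · exact mem_cls3.mpr (Or.inr ⟨z, h⟩)
  by_cases hya : y = a
  · subst hya; exact self_mem_cls3 K y
  have : Has3 K a x y := Has3.trans hw h (fun e => hya e.symm)
  exact mem_cls3.mpr (Or.inr ⟨x, this.swap23⟩)

theorem mem_cls3_of_has3' {K : Subgroup (Perm α)} {a x y z : α} (h : Has3 K x y z)
    (hx : x ∈ cls3 K a) : z ∈ cls3 K a :=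
  mem_cls3_of_has3 h.swap23 hx

end classes

end Cfsg.Agent.Helper95
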