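import Mathlib

set_option autoImplicit false

namespace Cfsg.Agent.Helper95

open MulAction

/-- The stabiliser of a point in a subgroup. -/
lemma stabilizer_subgroup_eq {G Ω : Type*} [Group G] [MulAction G Ω] (P : Subgroup G) (ω : Ω) :
    stabilizer ↥P ω = (stabilizer G ω).subgroupOf P := by
  ext g
  simp only [mem_stabilizer_iff, Subgroup.mem_subgroupOf]
  rfl

/-- The size of the orbit of a subgroup is a relative index. -/
lemma ncard_orbit_subgroup {G Ω : Type*} [Group G] [MulAction G Ω] (P : Subgroup G) (ω : Ω) :
    (orbit ↥P ω).ncard = (stabilizer G ω).relIndex P := by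
  rw [← index_stabilizer, stabilizer_subgroup_eq, Subgroup.relIndex]

/-- For a transitive action, the degree divides (orbit size of a subgroup) * (index of the subgroup). -/
lemma card_dvd_ncard_orbit_mul_index {G Ω : Type*} [Group G] [MulAction G Ω] [IsPretransitive G Ω]
    (P : Subgroup G) (ω : Ω) :
    Nat.card Ω ∣ (orbit ↥P ω).ncard * P.index := by
  rw [ncard_orbit_subgroup, ← index_stabilizer_of_transitive G ω, ← Subgroup.inf_relIndex_left,
    Subgroup.relIndex_mul_index inf_le_left, ← Subgroup.relIndex_mul_index (inf_le_right : P ⊓ stabilizer G ω ≤ stabilizer G ω)]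
  exact dvd_mul_left _ _

end Cfsg.Agent.Helper95
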