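/-
Helper library of seat helper95: basic lemmas for the Thompson–Wielandt theorem
(cores of subgroups, the subgroup generated by the `p'`-elements, a coprime-order trick,
the normaliser condition for a pair of `p`-subgroups).
-/
import Mathlib
import Cfsg.Agent.Helper34.Bender2
import Cfsg.Agent.Helper22.Transport
import Cfsg.Agent.Helper22.FStar
import Cfsg.Agent.Helper47.Coprime

set_option autoImplicit false

namespace Cfsg.Agent.Helper95

open Cfsg Subgroup

section TWBasic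

variable {G : Type*} [Group G]

/-! ### Conjugation by elements of a normalising subgroup -/

theorem tw_conj_mem {M X : Subgroup G} (h : M ≤ normalizer (X : Set G)) {m x : G} (hm : m ∈ M)
    (hx : x ∈ X) : m * x * m⁻¹ ∈ X :=
  (mem_normalizer_iff.mp (h hm) x).mp hx

theorem tw_conj_mem' {M X : Subgroup G} (h : M ≤ normalizer (X : Set G)) {m x : G} (hm : m ∈ M)
    (hx : x ∈ X) : m⁻¹ * x * m ∈ X := by
  have := tw_conj_mem h (M.inv_mem hm) hx
  simpa using this

theorem tw_le_normalizer_of_conj {M X : Subgroup G}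
    (h : ∀ m ∈ M, ∀ x ∈ X, m * x * m⁻¹ ∈ X) : M ≤ normalizer (X : Set G) := by
  intro m hm
  refine Helper24.mem_normalizer_of_conj_mem (h m hm) (fun x hx => ?_)
  have := h m⁻¹ (M.inv_mem hm) x hx
  simpa using this

theorem tw_le_normalizer_inf {M X Y : Subgroup G} (hX : M ≤ normalizer (X : Set G))
    (hY : M ≤ normalizer (Y : Set G)) : M ≤ normalizer ((X ⊓ Y : Subgroup G) : Set G) :=
  tw_le_normalizer_of_conj fun _ hm _ hx =>
    ⟨tw_conj_mem hX hm hx.1, tw_conj_mem hY hm hx.2⟩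

/-! ### Cores -/

/-- `C` is the core in `M` of (the intersection of `M` with) `X`. -/
structure TWCore (M X C : Subgroup G) : Prop where
  le : C ≤ M
  le' : C ≤ X
  norm : M ≤ normalizer (C : Set G)
  max : ∀ s ∈ M, (∀ h ∈ M, h * s * h⁻¹ ∈ X) → s ∈ C

theorem twCore_normalCore (M Y : Subgroup G) :
    TWCore M Y ((Y.subgroupOf M).normalCore.map M.subtype) := by
  refine ⟨map_subtype_le _, ?_, Helper34.le_normalizer_map_subtype_of_normal M _, ?_⟩
  · rintro _ ⟨c, hc, rfl⟩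
    have := (Y.subgroupOf M).normalCore_le hc
    exact mem_subgroupOf.mp this
  · intro s hs h
    refine ⟨⟨s, hs⟩, ?_, rfl⟩
    intro b
    rw [mem_subgroupOf]
    exact h b b.2

theorem TWCore.of_le {M X X' C : Subgroup G} (h : TWCore M X C) (hC : C ≤ X')
    (hX : ∀ s ∈ M, (∀ h ∈ M, h * s * h⁻¹ ∈ X') → ∀ h ∈ M, h * s * h⁻¹ ∈ X) : TWCore M X' C :=
  ⟨h.le, hC, h.norm, fun s hs hh => h.max s hs (hX s hs hh)⟩

theorem TWCore.le_of {M X C Y : Subgroup G} (h : TWCore M X C) (hYM : Y ≤ M) (hYX : Y ≤ X)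
    (hN : M ≤ normalizer (Y : Set G)) : Y ≤ C :=
  fun s hs => h.max s (hYM hs) fun _ hm => hYX (tw_conj_mem hN hm hs)

/-! ### The `p`-core of a subgroup, as a subgroup of the ambient group -/

/-- `O_p(M)` as a subgroup of `G`. -/
def pcG (p : ℕ) (M : Subgroup G) : Subgroup G := (pCore p ↥M).map M.subtype

theorem pcG_le (p : ℕ) (M : Subgroup G) : pcG p M ≤ M := map_subtype_le _

theorem pcG_isPGroup (p : ℕ) (M : Subgroup G) : IsPGroup p ↥(pcG p M) :=
  (Helper22.pCore_isPGroup p ↥M).map _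

theorem le_normalizer_pcG (p : ℕ) (M : Subgroup G) : M ≤ normalizer ((pcG p M : Subgroup G) : Set G) :=
  haveI := Cfsg.pCore_normal p ↥M
  Helper34.le_normalizer_map_subtype_of_normal M _

theorem card_pcG (p : ℕ) (M : Subgroup G) : Nat.card ↥(pcG p M) = Nat.card ↥(pCore p ↥M) :=
  card_map_of_injective M.subtype_injective

theorem pcG_eq_bot_iff (p : ℕ) (M : Subgroup G) : pcG p M = ⊥ ↔ pCore p ↥M = ⊥ :=
  map_eq_bot_iff_of_injective _ M.subtype_injective

/-- A `p`-subgroup `X` with `X ⊴ B ⊴ M` lies in `O_p(M)`. -/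
theorem le_pcG_of_chain {p : ℕ} {X B M : Subgroup G} (hX : IsPGroup p ↥X) (hXB : X ≤ B)
    (hBM : B ≤ M) (hBX : B ≤ normalizer (X : Set G)) (hMB : M ≤ normalizer (B : Set G)) :
    X ≤ pcG p M := by
  have hBn : (B.subgroupOf M).Normal := (normal_subgroupOf_iff_le_normalizer hBM).mpr hMB
  have hle : X.subgroupOf M ≤ B.subgroupOf M := fun x hx => hXB hx
  have hXn : ((X.subgroupOf M).subgroupOf (B.subgroupOf M)).Normal := by
    rw [normal_subgroupOf_iff_le_normalizer hle]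
    intro b hb
    rw [mem_normalizer_iff]
    intro x
    have := mem_normalizer_iff.mp (hBX (mem_subgroupOf.mp hb)) (x : G)
    simpa [mem_subgroupOf] using this
  have hsub : (X.subgroupOf M).IsSubnormal :=
    Subgroup.IsSubnormal.step _ _ hle hBn.isSubnormal hXn
  have hp : IsPGroup p ↥(X.subgroupOf M) :=
    hX.of_equiv (subgroupOfEquivOfLe (hXB.trans hBM)).symm
  have h := Helper22.le_pCore_of_isSubnormal p hsub hp
  intro x hx
  exact ⟨⟨x, hBM (hXB hx)⟩, h (mem_subgroupOf.mpr hx), rfl⟩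

/-- A normal `p`-subgroup of `M` lies in `O_p(M)`. -/
theorem le_pcG_of_normal {p : ℕ} {X M : Subgroup G} (hX : IsPGroup p ↥X) (hXM : X ≤ M)
    (hMX : M ≤ normalizer (X : Set G)) : X ≤ pcG p M :=
  le_pcG_of_chain hX hXM le_rfl hMX (le_normalizer)

/-! ### The subgroup generated by the `p'`-elements -/

/-- The subgroup generated by the elements of `X` of order prime to `p`. -/
def pRegGen (p : ℕ) (X : Subgroup G) : Subgroup G :=
  closure {y | y ∈ X ∧ (orderOf y).Coprime p}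

theorem pRegGen_le (p : ℕ) (X : Subgroup G) : pRegGen p X ≤ X := by
  unfold pRegGen
  rw [closure_le]
  exact fun y hy => hy.1

theorem tw_orderOf_conj (g y : G) : orderOf (g * y * g⁻¹) = orderOf y := by
  have := orderOf_injective (MulAut.conj g).toMonoidHom (MulAut.conj g).injective y
  simpa using this

theorem mem_normalizer_pRegGen {p : ℕ} {X : Subgroup G} {g : G}
    (h1 : ∀ y ∈ X, (orderOf y).Coprime p → g * y * g⁻¹ ∈ X)
    (h2 : ∀ y ∈ X, (orderOf y).Coprime p → g⁻¹ * y * g ∈ X) :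
    g ∈ normalizer ((pRegGen p X : Subgroup G) : Set G) := by
  have key : ∀ g : G, (∀ y ∈ X, (orderOf y).Coprime p → g * y * g⁻¹ ∈ X) →
      ∀ z ∈ pRegGen p X, g * z * g⁻¹ ∈ pRegGen p X := by
    intro g h z hz
    have hle : pRegGen p X ≤ (pRegGen p X).comap (MulAut.conj g).toMonoidHom := by
      unfold pRegGen
      rw [closure_le]
      rintro y ⟨hy, hyo⟩
      rw [SetLike.mem_coe, mem_comap]
      apply Subgroup.subset_closure
      refine ⟨by simpa using h y hy hyo, ?_⟩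
      have e : (MulAut.conj g).toMonoidHom y = g * y * g⁻¹ := by simp
      rw [e, tw_orderOf_conj]; exact hyo
    have := hle hz
    simpa using this
  refine Helper24.mem_normalizer_of_conj_mem (key g h1) (fun z hz => ?_)
  have := key g⁻¹ (by simpa using h2) z hz
  simpa using this

theorem le_normalizer_pRegGen {p : ℕ} {M X : Subgroup G} (h : M ≤ normalizer (X : Set G)) :
    M ≤ normalizer ((pRegGen p X : Subgroup G) : Set G) := fun _ hm =>
  mem_normalizer_pRegGen (fun _ hy _ => tw_conj_mem h hm hy) (fun _ hy _ => tw_conj_mem' h hm hy)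

theorem isPGroup_of_pRegGen_eq_bot [Finite G] {p : ℕ} [Fact p.Prime] {X : Subgroup G}
    (h : pRegGen p X = ⊥) : IsPGroup p ↥X := by
  apply Helper47.isPGroup_of_forall_coprime_eq_one
  intro x hx
  have h1 : (x : G) ∈ pRegGen p X := Subgroup.subset_closure ⟨x.2, by rwa [Subgroup.orderOf_coe]⟩
  rw [h, mem_bot] at h1
  exact Subtype.ext h1

/-! ### A coprime-order trick -/

/-- If `B ⊴ K`, `c ∈ K` is a `p`-element, `y ∈ B` and `c * y` has order prime to `p`, then
`c * y ∈ B`. -/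
theorem mem_of_coprime_mul {p : ℕ} {K B : Subgroup G} (hKB : K ≤ normalizer (B : Set G))
    {c y : G} (hc : c ∈ K) (k : ℕ) (hck : c ^ (p ^ k) = 1) (hy : y ∈ B) (n : ℕ)
    (hn : n.Coprime p) (hz : (c * y) ^ n = 1) : c * y ∈ B := by
  have key : ∀ m : ℕ, ∃ b ∈ B, (c * y) ^ m = c ^ m * b := by
    intro m
    induction m with
    | zero => exact ⟨1, B.one_mem, by simp⟩
    | succ m ih =>
      obtain ⟨b, hb, e⟩ := ih
      refine ⟨c⁻¹ * b * c * y, B.mul_mem (tw_conj_mem' hKB hc hb) hy, ?_⟩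
      rw [pow_succ, e, pow_succ]; group
  obtain ⟨b, hb, e⟩ := key (p ^ k)
  rw [hck, one_mul] at e
  have hord : orderOf (c * y) ∣ n := orderOf_dvd_of_pow_eq_one hz
  have hcop : (p ^ k).Coprime (orderOf (c * y)) :=
    Nat.Coprime.coprime_dvd_right hord (Nat.Coprime.pow_left k hn.symm)
  obtain ⟨m, hm⟩ := exists_pow_eq_self_of_coprime hcop
  rw [← hm, e]
  exact B.pow_mem hb m

/-- The subnormal step: if `B ⊴ A ⊴ M` and `Q` is a normal `p`-subgroup of `M`, then `Q`
permutes the `p'`-elements of `B` by conjugation. -/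
theorem conj_mem_of_coprime [Finite G] {p : ℕ} {B A M Q : Subgroup G}
    (hAB : A ≤ normalizer (B : Set G)) (hMA : M ≤ normalizer (A : Set G)) (hBA : B ≤ A)
    (hAM : A ≤ M) (hQM : Q ≤ M) (hMQ : M ≤ normalizer (Q : Set G)) (hQ : IsPGroup p ↥Q) {y q : G}
    (hy : y ∈ B) (hyo : (orderOf y).Coprime p) (hq : q ∈ Q) : q * y * q⁻¹ ∈ B := by
  have hyM : y ∈ M := hAM (hBA hy)
  have hcQ : q * y * q⁻¹ * y⁻¹ ∈ Q := by
    have h1 : y * q⁻¹ * y⁻¹ ∈ Q := tw_conj_mem hMQ hyM (Q.inv_mem hq)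
    have := Q.mul_mem hq h1
    have e : q * (y * q⁻¹ * y⁻¹) = q * y * q⁻¹ * y⁻¹ := by group
    rwa [e] at this
  have hcA : q * y * q⁻¹ * y⁻¹ ∈ A :=
    A.mul_mem (tw_conj_mem hMA (hQM hq) (hBA hy)) (A.inv_mem (hBA hy))
  obtain ⟨k, hk⟩ := hQ ⟨_, hcQ⟩
  have hk' : (q * y * q⁻¹ * y⁻¹) ^ (p ^ k) = 1 := by
    have := congrArg Subtype.val hk
    simpa using this
  have e : q * y * q⁻¹ = (q * y * q⁻¹ * y⁻¹) * y := by group
  rw [e]
  refine mem_of_coprime_mul hAB hcA k hk' hy (orderOf y) hyo ?_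
  rw [← e, conj_pow, pow_orderOf_eq_one]; group

/-! ### Products of two subgroups, one normalising the other -/

theorem tw_mem_sup_of_normalizes {H N : Subgroup G} (h : H ≤ normalizer (N : Set G)) {x : G}
    (hx : x ∈ H ⊔ N) : ∃ n ∈ N, ∃ a ∈ H, x = n * a := by
  rw [sup_eq_closure] at hx
  induction hx using Subgroup.closure_induction with
  | mem x hx =>
    rcases hx with hx | hx
    · exact ⟨1, N.one_mem, x, hx, by simp⟩
    · exact ⟨x, hx, 1, H.one_mem, by simp⟩
  | one => exact ⟨1, N.one_mem, 1, H.one_mem, by simp⟩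
  | mul x y _ _ hx hy =>
    obtain ⟨n₁, hn₁, a₁, ha₁, rfl⟩ := hx
    obtain ⟨n₂, hn₂, a₂, ha₂, rfl⟩ := hy
    refine ⟨n₁ * (a₁ * n₂ * a₁⁻¹), N.mul_mem hn₁ (tw_conj_mem h ha₁ hn₂), a₁ * a₂,
      H.mul_mem ha₁ ha₂, by group⟩
  | inv x _ hx =>
    obtain ⟨n, hn, a, ha, rfl⟩ := hx
    refine ⟨a⁻¹ * n⁻¹ * a, tw_conj_mem' h ha (N.inv_mem hn), a⁻¹, H.inv_mem ha, by group⟩

/-- Normalisers grow in `p`-groups: if `Q₂` normalises `Q₁` (both `p`-groups) and
`N_{Q₁}(Q₂) ≤ Q₂`, then `Q₁ ≤ Q₂`. -/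
theorem le_of_inf_normalizer_le [Finite G] {p : ℕ} [Fact p.Prime] {Q₁ Q₂ : Subgroup G}
    (h1 : IsPGroup p ↥Q₁) (h2 : IsPGroup p ↥Q₂) (hN : Q₂ ≤ normalizer (Q₁ : Set G))
    (hS : Q₁ ⊓ normalizer (Q₂ : Set G) ≤ Q₂) : Q₁ ≤ Q₂ := by
  have hK : IsPGroup p ↥(Q₂ ⊔ Q₁) := IsPGroup.to_sup_of_normal_right' h2 h1 hN
  have : Group.IsNilpotent ↥(Q₂ ⊔ Q₁) := hK.isNilpotent
  have hnc : NormalizerCondition ↥(Q₂ ⊔ Q₁) := Group.normalizerCondition_of_isNilpotent
  by_cases htop : Q₂.subgroupOf (Q₂ ⊔ Q₁) = ⊤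
  · exact le_sup_right.trans (subgroupOf_eq_top.mp htop)
  · exfalso
    have hlt := hnc _ (lt_top_iff_ne_top.mpr htop)
    obtain ⟨k, hkN, hkH⟩ := SetLike.exists_of_lt hlt
    have hkG : (k : G) ∈ normalizer (Q₂ : Set G) := by
      have key : ∀ k' : ↥(Q₂ ⊔ Q₁), k' ∈ normalizer ((Q₂.subgroupOf (Q₂ ⊔ Q₁) : Subgroup _) : Set _) →
          ∀ q ∈ Q₂, (k' : G) * q * (k' : G)⁻¹ ∈ Q₂ := by
        intro k' hk' q hq
        have := (mem_normalizer_iff.mp hk' ⟨q, (le_sup_left : Q₂ ≤ Q₂ ⊔ Q₁) hq⟩).mp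
          (mem_subgroupOf.mpr hq)
        simpa [mem_subgroupOf] using this
      refine Helper24.mem_normalizer_of_conj_mem (key k hkN) (fun q hq => ?_)
      have := key k⁻¹ (inv_mem hkN) q hq
      simpa using this
    obtain ⟨n, hn, a, ha, e⟩ := tw_mem_sup_of_normalizes hN k.2
    have hnN : n ∈ normalizer (Q₂ : Set G) := by
      have : n = (k : G) * a⁻¹ := by rw [e]; group
      rw [this]
      exact mul_mem hkG (inv_mem (le_normalizer ha))
    have hn2 : n ∈ Q₂ := hS ⟨hn, hnN⟩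
    apply hkH
    rw [mem_subgroupOf, e]
    exact Q₂.mul_mem hn2 ha

/-! ### A nontrivial normal subgroup meets some `O_p` when the layer is trivial -/

theorem exists_prime_pCore_inf_ne_bot {H : Type*} [Group H] [Finite H] (hE : layer H = ⊥)
    (N : Subgroup H) [hNn : N.Normal] (hN : N ≠ ⊥) : ∃ p : ℕ, p.Prime ∧ pCore p H ⊓ N ≠ ⊥ := by
  by_contra hcon
  push Not at hcon
  have hcent : ∀ q : Nat.Primes, pCore (q : ℕ) H ≤ centralizer (N : Set H) := by
    intro q
    have := Cfsg.pCore_normal (q : ℕ) H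
    rw [← commutator_eq_bot_iff_le_centralizer, eq_bot_iff, ← hcon q q.2]
    exact commutator_le_inf _ _
  have hF : fittingSubgroup H ≤ centralizer (N : Set H) := by
    rw [Helper22.fittingSubgroup_eq_iSup_pCore]
    exact iSup_le hcent
  have hFs : generalizedFittingSubgroup H = fittingSubgroup H := by
    unfold generalizedFittingSubgroup
    rw [hE, bot_sup_eq]
  have hNF : N ≤ fittingSubgroup H := by
    have h1 : N ≤ centralizer (fittingSubgroup H : Set H) := le_centralizer_iff.mp hF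
    have h2 := Helper22.centralizer_generalizedFittingSubgroup_le H
    rw [hFs] at h2
    exact h1.trans h2
  have hcomm : ∀ a ∈ N, ∀ b ∈ N, a * b = b * a := by
    intro a ha b hb
    exact ((mem_centralizer_iff.mp (hF (hNF ha))) b hb).symm
  obtain ⟨x, hx1⟩ := (Subgroup.ne_bot_iff_exists_ne_one.mp hN)
  have hx1' : (x : H) ≠ 1 := fun h => hx1 (Subtype.ext h)
  have hord : orderOf (x : H) ≠ 1 := fun h => hx1' (orderOf_eq_one_iff.mp h)
  obtain ⟨q, hq, hqd⟩ := Nat.exists_prime_and_dvd hord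
  set y : H := (x : H) ^ (orderOf (x : H) / q) with hy
  have hyo : orderOf y = q := orderOf_pow_orderOf_div (orderOf_pos (x : H)).ne' hqd
  have hyN : y ∈ N := N.pow_mem x.2 _
  let T : Subgroup H :=
    { carrier := {z | z ∈ N ∧ z ^ q = 1}
      one_mem' := ⟨N.one_mem, one_pow _⟩
      mul_mem' := by
        rintro a b ⟨ha, ha'⟩ ⟨hb, hb'⟩
        refine ⟨N.mul_mem ha hb, ?_⟩
        have hc : Commute a b := hcomm a ha b hb
        rw [hc.mul_pow, ha', hb', one_mul]
      inv_mem' := by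
        rintro a ⟨ha, ha'⟩
        exact ⟨N.inv_mem ha, by rw [inv_pow, ha', inv_one]⟩ }
  have hTn : T.Normal := by
    refine ⟨fun n hn g => ⟨hNn.conj_mem n hn.1 g, ?_⟩⟩
    rw [conj_pow, hn.2]; group
  have hTp : IsPGroup q ↥T := by
    intro z
    refine ⟨1, ?_⟩
    apply Subtype.ext
    have := z.2.2
    simpa using this
  have hT : T ≤ pCore q H := le_sSup ⟨hTn, hTp⟩
  have hyT : y ∈ T := ⟨hyN, by rw [← hyo]; exact pow_orderOf_eq_one y⟩
  have : y ∈ pCore q H ⊓ N := ⟨hT hyT, hyN⟩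
  rw [hcon q hq, mem_bot] at this
  rw [this, orderOf_one] at hyo
  exact hq.one_lt.ne hyo

/-! ### Transport along conjugation -/

theorem card_pCore_conj (p : ℕ) (M : Subgroup G) (g : G) :
    Nat.card ↥(pCore p ↥(M.map (MulAut.conj g).toMonoidHom)) = Nat.card ↥(pCore p ↥M) := by
  rw [MulEquiv.toMonoidHom_eq_coe]
  have e := Helper22.pCore_map_equiv p ((MulAut.conj g).subgroupMap M)
  rw [← e]
  exact card_map_of_injective ((MulAut.conj g).subgroupMap M).injective

theorem card_pRegCentGen_conj (p : ℕ) (M : Subgroup G) (g : G) :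
    Nat.card ↥(Helper34.pRegCentGen p (M.map (MulAut.conj g).toMonoidHom)) =
      Nat.card ↥(Helper34.pRegCentGen p M) := by
  rw [MulEquiv.toMonoidHom_eq_coe]
  set e := (MulAut.conj g).subgroupMap M with he
  unfold Helper34.pRegCentGen
  rw [card_map_of_injective (Subgroup.subtype_injective _),
    card_map_of_injective (Subgroup.subtype_injective _)]
  have hset : {x : ↥(M.map ((MulAut.conj g : G ≃* G) : G →* G)) |
      x ∈ centralizer (pCore p ↥(M.map ((MulAut.conj g : G ≃* G) : G →* G)) : Set _) ∧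
        (orderOf x).Coprime p} =
      (e : ↥M →* _) '' {x : ↥M | x ∈ centralizer (pCore p ↥M : Set ↥M) ∧ (orderOf x).Coprime p} := by
    have hc := Helper22.map_centralizer_equiv e (pCore p ↥M)
    rw [Helper22.pCore_map_equiv p e] at hc
    have hord : ∀ w : ↥M,
        orderOf ((e : ↥M →* ↥(M.map ((MulAut.conj g : G ≃* G) : G →* G))) w) = orderOf w := by
      intro w
      rw [MonoidHom.coe_coe]; exact MulEquiv.orderOf_eq e w
    ext x
    constructor
    · rintro ⟨hx1, hx2⟩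
      rw [← hc] at hx1
      obtain ⟨w, hw, rfl⟩ := hx1
      refine ⟨w, ⟨hw, ?_⟩, rfl⟩
      rwa [hord w] at hx2
    · rintro ⟨w, ⟨hw1, hw2⟩, rfl⟩
      refine ⟨?_, ?_⟩
      · rw [← hc]; exact ⟨w, hw1, rfl⟩
      · rwa [hord w]
  rw [hset, ← MonoidHom.map_closure]
  exact card_map_of_injective e.injective

end TWBasic

end Cfsg.Agent.Helper95
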