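/-
Helper library of seat helper95: the Thompson–Wielandt theorem for a pair of distinct conjugate
core-free maximal subgroups `M₁`, `M₂` (`TWPair`): with `A₁ = core_{M₁}(M₁ ∩ M₂)`,
`B₁ = core_{M₂}(M₁ ∩ M₂)`, `A₂ = core_{M₁}(A₁ ∩ B₁)`, `B₂ = core_{M₂}(A₁ ∩ B₁)`:
* `TWPair.isPGroup_A₂`: if `O_p(M₁) ≠ 1` then `A₂` is a `p`-group;
* `TWPair.fstar`: if `A₂ ≠ 1 ≠ B₂` then `F*(M_i) = O_p(M_i)` for one prime `p`;
* `TWPair.main`: both together.
-/
import Cfsg.Agent.Helper95.TWBasic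

set_option autoImplicit false

namespace Cfsg.Agent.Helper95

open Cfsg Subgroup
open scoped commutatorElement

section TWMain

variable {G : Type*} [Group G]


/-! ### Auxiliary lemmas on components -/

theorem tw_isSubnormal_of_chain {X B M : Subgroup G} (hXB : X ≤ B) (hBM : B ≤ M)
    (hBX : B ≤ normalizer (X : Set G)) (hMB : M ≤ normalizer (B : Set G)) :
    (X.subgroupOf M).IsSubnormal := by
  have hBn : (B.subgroupOf M).Normal := (normal_subgroupOf_iff_le_normalizer hBM).mpr hMB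
  have hle : X.subgroupOf M ≤ B.subgroupOf M := fun x hx => hXB hx
  have hXn : ((X.subgroupOf M).subgroupOf (B.subgroupOf M)).Normal := by
    rw [normal_subgroupOf_iff_le_normalizer hle]
    intro b hb
    rw [mem_normalizer_iff]
    intro x
    have := mem_normalizer_iff.mp (hBX (mem_subgroupOf.mp hb)) (x : G)
    simpa [mem_subgroupOf] using this
  exact Subgroup.IsSubnormal.step _ _ hle hBn.isSubnormal hXn

/-- A component of a subnormal subgroup `D` of `N` is a component of `N` (all inside `G`). -/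
theorem tw_isComponent_of_subnormal {L D N : Subgroup G} (hLD : L ≤ D) (hDN : D ≤ N)
    (hsub : (D.subgroupOf N).IsSubnormal) (hL : IsComponent (L.subgroupOf D)) :
    IsComponent (L.subgroupOf N) := by
  have hL' := Helper22.isComponent_map_equiv (subgroupOfEquivOfLe hDN).symm hL
  have h := Helper22.isComponent_map_subtype hsub hL'
  have e : (((L.subgroupOf D).map ((subgroupOfEquivOfLe hDN).symm : ↥D →* ↥(D.subgroupOf N))).map
      (D.subgroupOf N).subtype) = L.subgroupOf N := by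
    ext x
    constructor
    · rintro ⟨_, ⟨y, hy, rfl⟩, rfl⟩
      have hy' : (y : G) ∈ L := hy
      rw [mem_subgroupOf]
      simpa using hy'
    · intro hx
      rw [mem_subgroupOf] at hx
      refine ⟨(subgroupOfEquivOfLe hDN).symm ⟨x, hLD hx⟩, ⟨⟨x, hLD hx⟩, hx, rfl⟩, ?_⟩
      apply Subtype.ext; simp
  rwa [e] at h

theorem tw_quasisimple_not_comm {H : Type*} [Group H] {K : Subgroup H} (hK : IsQuasisimple ↥K)
    (hab : ∀ a ∈ K, ∀ b ∈ K, a * b = b * a) : False := by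
  have h1 : ⁅K, K⁆ = ⊥ := by
    rw [commutator_eq_bot_iff_le_centralizer]
    intro a ha
    rw [mem_centralizer_iff]
    intro b hb
    exact hab b hb a ha
  have h2 := Helper22.quasisimple_commutator_eq hK
  rw [h1] at h2
  exact Helper22.quasisimple_ne_bot hK h2.symm

theorem tw_le_normalizer_centralizer {M X : Subgroup G} (h : M ≤ normalizer (X : Set G)) :
    M ≤ normalizer ((centralizer (X : Set G) : Subgroup G) : Set G) := by
  apply tw_le_normalizer_of_conj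
  intro m hm z hz
  rw [mem_centralizer_iff] at hz ⊢
  intro x hx
  have hx' : m⁻¹ * x * m ∈ X := tw_conj_mem' h hm hx
  have := hz _ hx'
  calc x * (m * z * m⁻¹) = m * ((m⁻¹ * x * m) * z) * m⁻¹ := by group
    _ = m * (z * (m⁻¹ * x * m)) * m⁻¹ := by rw [this]
    _ = m * z * m⁻¹ * x := by group

/-- The hypotheses of the Thompson–Wielandt theorem, in a form symmetric in the two subgroups. -/
structure TWPair (M₁ M₂ A₁ B₁ A₂ B₂ : Subgroup G) : Prop where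
  n1 : ∀ X : Subgroup G, X ≠ ⊥ → X ≤ M₁ → M₁ ≤ normalizer (X : Set G) →
    normalizer (X : Set G) ≤ M₁
  n2 : ∀ X : Subgroup G, X ≠ ⊥ → X ≤ M₂ → M₂ ≤ normalizer (X : Set G) →
    normalizer (X : Set G) ≤ M₂
  nle12 : ¬ M₁ ≤ M₂
  nle21 : ¬ M₂ ≤ M₁
  a1 : TWCore M₁ M₂ A₁
  b1 : TWCore M₂ M₁ B₁
  a2 : TWCore M₁ B₁ A₂
  b2 : TWCore M₂ A₁ B₂
  cq : ∀ p : ℕ, Nat.card ↥(pcG p M₁) = Nat.card ↥(pcG p M₂)
  cx : ∀ p : ℕ, Nat.card ↥(Helper34.pRegCentGen p M₁) = Nat.card ↥(Helper34.pRegCentGen p M₂)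

variable {M₁ M₂ A₁ B₁ A₂ B₂ : Subgroup G}

theorem TWPair.symm (h : TWPair M₁ M₂ A₁ B₁ A₂ B₂) : TWPair M₂ M₁ B₁ A₁ B₂ A₂ :=
  ⟨h.n2, h.n1, h.nle21, h.nle12, h.b1, h.a1, h.b2, h.a2, fun p => (h.cq p).symm,
    fun p => (h.cx p).symm⟩

theorem TWPair.key (h : TWPair M₁ M₂ A₁ B₁ A₂ B₂) {X : Subgroup G} (hX : X ≤ M₁)
    (h1 : M₁ ≤ normalizer (X : Set G)) (h2 : M₂ ≤ normalizer (X : Set G)) : X = ⊥ := by
  by_contra hne
  exact h.nle21 (h2.trans (h.n1 X hne hX h1))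

theorem TWPair.B₁_norm_A₂ (h : TWPair M₁ M₂ A₁ B₁ A₂ B₂) : B₁ ≤ normalizer (A₂ : Set G) :=
  h.b1.le'.trans h.a2.norm

theorem TWPair.pcG_inf_le (h : TWPair M₁ M₂ A₁ B₁ A₂ B₂) (p : ℕ) :
    pcG p M₁ ⊓ B₁ ≤ pcG p M₂ :=
  le_pcG_of_chain ((pcG_isPGroup p M₁).to_le inf_le_left) inf_le_right h.b1.le
    (tw_le_normalizer_inf (h.b1.le'.trans (le_normalizer_pcG p M₁)) le_normalizer) h.b1.norm

/-- The easy case: if `A₂` is not a `p`-group then `O_p(M₂) ≤ M₁`. -/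
theorem TWPair.pcG_le_of_not_isPGroup [Finite G] {p : ℕ} [Fact p.Prime]
    (h : TWPair M₁ M₂ A₁ B₁ A₂ B₂) (hA : ¬ IsPGroup p ↥A₂) : pcG p M₂ ≤ M₁ := by
  have hW : pRegGen p A₂ ≠ ⊥ := fun e => hA (isPGroup_of_pRegGen_eq_bot e)
  have hN := h.n1 _ hW ((pRegGen_le p A₂).trans h.a2.le) (le_normalizer_pRegGen h.a2.norm)
  intro q hq
  apply hN
  refine mem_normalizer_pRegGen (fun y hy hyo => ?_) (fun y hy hyo => ?_)
  · exact conj_mem_of_coprime h.B₁_norm_A₂ h.b1.norm h.a2.le' h.b1.le (pcG_le p M₂)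
      (le_normalizer_pcG p M₂) (pcG_isPGroup p M₂) hy hyo hq
  · have := conj_mem_of_coprime h.B₁_norm_A₂ h.b1.norm h.a2.le' h.b1.le (pcG_le p M₂)
      (le_normalizer_pcG p M₂) (pcG_isPGroup p M₂) hy hyo (inv_mem hq)
    simpa using this

/-- If `O_p(M₁) ≠ 1` then `A₂` is a `p`-group. -/
theorem TWPair.isPGroup_A₂ [Finite G] {p : ℕ} [Fact p.Prime]
    (h : TWPair M₁ M₂ A₁ B₁ A₂ B₂) (hQ : pcG p M₁ ≠ ⊥) : IsPGroup p ↥A₂ := by
  by_contra hA
  have hW : pRegGen p A₂ ≠ ⊥ := fun e => hA (isPGroup_of_pRegGen_eq_bot e)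
  have hN := h.n1 _ hW ((pRegGen_le p A₂).trans h.a2.le) (le_normalizer_pRegGen h.a2.norm)
  have hQ₂M₁ : pcG p M₂ ≤ M₁ := h.pcG_le_of_not_isPGroup hA
  have hQ₂B₁ : pcG p M₂ ≤ B₁ := h.b1.le_of (pcG_le p M₂) hQ₂M₁ (le_normalizer_pcG p M₂)
  have hQB := h.pcG_inf_le p
  have hS : pcG p M₁ ⊓ M₂ ≤ B₁ := by
    intro s hs
    apply h.b1.max s (Subgroup.mem_inf.mp hs).2
    intro m hm
    apply hN
    have key : ∀ s ∈ pcG p M₁ ⊓ M₂, ∀ y ∈ A₂, (orderOf y).Coprime p →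
        (m * s * m⁻¹) * y * (m * s * m⁻¹)⁻¹ ∈ A₂ := by
      intro s hs y hy hyo
      obtain ⟨hs1, hs2⟩ := Subgroup.mem_inf.mp hs
      have hy' : m⁻¹ * y * m ∈ B₁ := tw_conj_mem' h.b1.norm hm (h.a2.le' hy)
      have hc₀ : s * (m⁻¹ * y * m) * s⁻¹ * (m⁻¹ * y * m)⁻¹ ∈ pcG p M₁ ⊓ B₁ := by
        refine Subgroup.mem_inf.mpr ⟨?_, ?_⟩
        · have h1 : (m⁻¹ * y * m) * s⁻¹ * (m⁻¹ * y * m)⁻¹ ∈ pcG p M₁ :=
            tw_conj_mem (le_normalizer_pcG p M₁) (h.b1.le' hy') (inv_mem hs1)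
          have := mul_mem hs1 h1
          have e : s * ((m⁻¹ * y * m) * s⁻¹ * (m⁻¹ * y * m)⁻¹) =
              s * (m⁻¹ * y * m) * s⁻¹ * (m⁻¹ * y * m)⁻¹ := by group
          rwa [e] at this
        · exact mul_mem (tw_conj_mem h.b1.norm hs2 hy') (inv_mem hy')
      have hc : m * (s * (m⁻¹ * y * m) * s⁻¹ * (m⁻¹ * y * m)⁻¹) * m⁻¹ ∈ pcG p M₂ :=
        tw_conj_mem (le_normalizer_pcG p M₂) hm (hQB hc₀)
      have e : (m * s * m⁻¹) * y * (m * s * m⁻¹)⁻¹ =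
          (m * (s * (m⁻¹ * y * m) * s⁻¹ * (m⁻¹ * y * m)⁻¹) * m⁻¹) * y := by group
      rw [e]
      obtain ⟨k, hk⟩ := (pcG_isPGroup p M₂) ⟨_, hc⟩
      have hk' : (m * (s * (m⁻¹ * y * m) * s⁻¹ * (m⁻¹ * y * m)⁻¹) * m⁻¹) ^ (p ^ k) = 1 := by
        have := congrArg Subtype.val hk
        simpa using this
      refine mem_of_coprime_mul h.B₁_norm_A₂ (hQ₂B₁ hc) k hk' hy (orderOf y) hyo ?_
      rw [← e, conj_pow, pow_orderOf_eq_one]; group
    refine mem_normalizer_pRegGen (key s hs) (fun y hy hyo => ?_)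
    have := key s⁻¹ (inv_mem hs) y hy hyo
    have e : (m * s⁻¹ * m⁻¹) * y * (m * s⁻¹ * m⁻¹)⁻¹ = (m * s * m⁻¹)⁻¹ * y * (m * s * m⁻¹) := by
      group
    rwa [e] at this
  have hQ₂ne : pcG p M₂ ≠ ⊥ := by
    intro e
    apply hQ
    have := h.cq p
    rw [e] at this
    exact Subgroup.card_eq_one.mp (by simpa using this)
  have hNQ₂ : normalizer ((pcG p M₂ : Subgroup G) : Set G) ≤ M₂ :=
    h.n2 _ hQ₂ne (pcG_le p M₂) (le_normalizer_pcG p M₂)
  have hle : pcG p M₁ ≤ pcG p M₂ :=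
    le_of_inf_normalizer_le (pcG_isPGroup p M₁) (pcG_isPGroup p M₂)
      (hQ₂M₁.trans (le_normalizer_pcG p M₁))
      (fun x hx => hQB (Subgroup.mem_inf.mpr ⟨(Subgroup.mem_inf.mp hx).1,
        hS (Subgroup.mem_inf.mpr ⟨(Subgroup.mem_inf.mp hx).1, hNQ₂ (Subgroup.mem_inf.mp hx).2⟩)⟩))
  have heq : pcG p M₁ = pcG p M₂ := eq_of_le_of_card_ge hle (h.cq p).ge
  refine hQ (h.key (pcG_le p M₁) (le_normalizer_pcG p M₁) ?_)
  rw [heq]
  exact le_normalizer_pcG p M₂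

/-! ### The layers are trivial -/

/-- Every component of `M₁` lies in `B₁` (when `A₂ ≠ 1 ≠ B₂`). -/
theorem TWPair.layer_le_B₁ [Finite G] (h : TWPair M₁ M₂ A₁ B₁ A₂ B₂) (hA₂ : A₂ ≠ ⊥)
    (hB₂ : B₂ ≠ ⊥) : (layer ↥M₁).map M₁.subtype ≤ B₁ := by
  rw [map_le_iff_le_comap]
  apply sSup_le
  intro K hK
  rw [← map_le_iff_le_comap]
  have hK' : IsComponent K := hK
  have hK₁M : K.map M₁.subtype ≤ M₁ := map_subtype_le K
  have hc : IsComponent ((K.map M₁.subtype).subgroupOf M₁) := by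
    have e : (K.map M₁.subtype).subgroupOf M₁ = K := by
      ext x
      simp [mem_subgroupOf]
    rw [e]; exact hK'
  -- step (a): `K ≤ A₁`
  have hKA₁ : K.map M₁.subtype ≤ A₁ := by
    have hNn : (A₁.subgroupOf M₁).Normal :=
      (normal_subgroupOf_iff_le_normalizer h.a1.le).mpr h.a1.norm
    rcases Helper22.component_le_or_le_centralizer hK' hNn.isSubnormal with h1 | h1
    · rintro _ ⟨k, hk, rfl⟩
      exact mem_subgroupOf.mp (h1 hk)
    · exfalso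
      have hKc : K.map M₁.subtype ≤ centralizer (A₁ : Set G) := by
        rintro _ ⟨k, hk, rfl⟩
        rw [mem_centralizer_iff]
        intro a ha
        have := (mem_centralizer_iff.mp (h1 hk)) ⟨a, h.a1.le ha⟩ (mem_subgroupOf.mpr ha)
        exact congrArg Subtype.val this
      have hZ : centralizer (A₁ : Set G) ⊓ M₁ ≤ A₁ := by
        apply h.a1.le_of inf_le_right
        · intro z hz
          have hz1 : z ∈ centralizer (B₂ : Set G) :=
            centralizer_le (SetLike.coe_subset_coe.mpr (h.b2.le')) (Subgroup.mem_inf.mp hz).1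
          exact h.n2 B₂ hB₂ h.b2.le h.b2.norm (centralizer_le_normalizer _ hz1)
        · exact tw_le_normalizer_inf (tw_le_normalizer_centralizer h.a1.norm) le_normalizer
      apply tw_quasisimple_not_comm hK'.2
      intro a ha b hb
      have ha' : (a : G) ∈ K.map M₁.subtype := ⟨a, ha, rfl⟩
      have hb' : (b : G) ∈ K.map M₁.subtype := ⟨b, hb, rfl⟩
      have hbA : (b : G) ∈ A₁ := hZ (Subgroup.mem_inf.mpr ⟨hKc hb', hK₁M hb'⟩)
      have := (mem_centralizer_iff.mp (hKc ha')) (b : G) hbA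
      exact Subtype.ext this.symm
  -- step (b): `K ≤ B₁`
  have hKD : K.map M₁.subtype ≤ M₁ ⊓ M₂ := le_inf hK₁M (hKA₁.trans h.a1.le')
  have hcD : IsComponent ((K.map M₁.subtype).subgroupOf (M₁ ⊓ M₂)) :=
    Helper34.isComponent_subgroupOf_of_le hKD inf_le_left hc
  have hB₁D : B₁ ≤ M₁ ⊓ M₂ := le_inf h.b1.le' h.b1.le
  have hNn : (B₁.subgroupOf (M₁ ⊓ M₂)).Normal :=
    (normal_subgroupOf_iff_le_normalizer hB₁D).mpr (inf_le_right.trans h.b1.norm)
  rcases Helper22.component_le_or_le_centralizer hcD hNn.isSubnormal with h1 | h1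
  · intro x hx
    have : (⟨x, hKD hx⟩ : ↥(M₁ ⊓ M₂)) ∈ B₁.subgroupOf (M₁ ⊓ M₂) := h1 (mem_subgroupOf.mpr hx)
    exact mem_subgroupOf.mp this
  · exfalso
    have hKc : K.map M₁.subtype ≤ centralizer (B₁ : Set G) := by
      intro x hx
      rw [mem_centralizer_iff]
      intro b hb
      have := (mem_centralizer_iff.mp (h1 (show (⟨x, hKD hx⟩ : ↥(M₁ ⊓ M₂)) ∈ _ from
        mem_subgroupOf.mpr hx))) ⟨b, hB₁D hb⟩ (mem_subgroupOf.mpr hb)
      exact congrArg Subtype.val this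
    have hZ : centralizer (B₁ : Set G) ⊓ M₂ ≤ B₁ := by
      apply h.b1.le_of inf_le_right
      · intro z hz
        have hz1 : z ∈ centralizer (A₂ : Set G) :=
          centralizer_le (SetLike.coe_subset_coe.mpr (h.a2.le')) (Subgroup.mem_inf.mp hz).1
        exact h.n1 A₂ hA₂ h.a2.le h.a2.norm (centralizer_le_normalizer _ hz1)
      · exact tw_le_normalizer_inf (tw_le_normalizer_centralizer h.b1.norm) le_normalizer
    apply tw_quasisimple_not_comm hK'.2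
    intro a ha b hb
    have ha' : (a : G) ∈ K.map M₁.subtype := ⟨a, ha, rfl⟩
    have hb' : (b : G) ∈ K.map M₁.subtype := ⟨b, hb, rfl⟩
    have hbB : (b : G) ∈ B₁ := hZ (Subgroup.mem_inf.mpr ⟨hKc hb', (hKD hb').2⟩)
    have := (mem_centralizer_iff.mp (hKc ha')) (b : G) hbB
    exact Subtype.ext this.symm

theorem TWPair.layer_le [Finite G] (h : TWPair M₁ M₂ A₁ B₁ A₂ B₂) (hA₂ : A₂ ≠ ⊥)
    (hB₂ : B₂ ≠ ⊥) : (layer ↥M₁).map M₁.subtype ≤ (layer ↥M₂).map M₂.subtype := by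
  have hEA₂ : (layer ↥M₁).map M₁.subtype ≤ A₂ := by
    have := Helper22.layer_normal ↥M₁
    exact h.a2.le_of (map_subtype_le _) (h.layer_le_B₁ hA₂ hB₂)
      (Helper34.le_normalizer_map_subtype_of_normal M₁ _)
  rw [map_le_iff_le_comap]
  apply sSup_le
  intro K hK
  rw [← map_le_iff_le_comap]
  have hK' : IsComponent K := hK
  have hK₁M : K.map M₁.subtype ≤ M₁ := map_subtype_le K
  have hc : IsComponent ((K.map M₁.subtype).subgroupOf M₁) := by
    have e : (K.map M₁.subtype).subgroupOf M₁ = K := by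
      ext x
      simp [mem_subgroupOf]
    rw [e]; exact hK'
  have hKA₂ : K.map M₁.subtype ≤ A₂ :=
    (Subgroup.map_mono (Helper22.component_le_layer hK')).trans hEA₂
  have hcA : IsComponent ((K.map M₁.subtype).subgroupOf A₂) :=
    Helper34.isComponent_subgroupOf_of_le hKA₂ h.a2.le hc
  have hA₂M₂ : A₂ ≤ M₂ := h.a2.le'.trans h.b1.le
  have hsub : (A₂.subgroupOf M₂).IsSubnormal :=
    tw_isSubnormal_of_chain h.a2.le' h.b1.le h.B₁_norm_A₂ h.b1.norm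
  have hcN := tw_isComponent_of_subnormal hKA₂ hA₂M₂ hsub hcA
  calc K.map M₁.subtype = ((K.map M₁.subtype).subgroupOf M₂).map M₂.subtype :=
        (map_subgroupOf_eq_of_le (hKA₂.trans hA₂M₂)).symm
    _ ≤ (layer ↥M₂).map M₂.subtype := Subgroup.map_mono (Helper22.component_le_layer hcN)

theorem TWPair.layer_eq_bot [Finite G] (h : TWPair M₁ M₂ A₁ B₁ A₂ B₂) (hA₂ : A₂ ≠ ⊥)
    (hB₂ : B₂ ≠ ⊥) : layer ↥M₁ = ⊥ := by
  have e : (layer ↥M₁).map M₁.subtype = (layer ↥M₂).map M₂.subtype :=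
    le_antisymm (h.layer_le hA₂ hB₂) (h.symm.layer_le hB₂ hA₂)
  have h1 := Helper22.layer_normal ↥M₁
  have h2 := Helper22.layer_normal ↥M₂
  have hbot : (layer ↥M₁).map M₁.subtype = ⊥ := by
    refine h.key (map_subtype_le _) (Helper34.le_normalizer_map_subtype_of_normal M₁ _) ?_
    rw [e]
    exact Helper34.le_normalizer_map_subtype_of_normal M₂ _
  exact (map_eq_bot_iff_of_injective _ M₁.subtype_injective).mp hbot

/-! ### The `p'`-elements of `C_{M₂}(O_p(M₂))` lie in `C_{M₁}(O_p(M₁))` -/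

theorem TWPair.pRegCentGen_le [Finite G] {p : ℕ} [Fact p.Prime]
    (h : TWPair M₁ M₂ A₁ B₁ A₂ B₂) (P : Subgroup G) (hP : P ≠ ⊥) (hPQ : P ≤ pcG p M₂)
    (hPM : P ≤ M₁) (hPN : M₁ ≤ normalizer (P : Set G))
    (hP' : pcG p M₁ ≤ M₂ ∨ ∃ P' : Subgroup G, P' ≠ ⊥ ∧ P' ≤ pcG p M₁ ∧ P' ≤ pcG p M₂ ∧
      M₂ ≤ normalizer (P' : Set G)) :
    Helper34.pRegCentGen p M₂ ≤ Helper34.pRegCentGen p M₁ := by
  unfold Helper34.pRegCentGen
  rw [map_le_iff_le_comap, closure_le]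
  rintro x ⟨hxc, hxo⟩
  rw [SetLike.mem_coe, mem_comap]
  have hxo' : (orderOf (x : G)).Coprime p := by rwa [Subgroup.orderOf_coe]
  -- elements centralising `O_p(M₂)` lie in `M₁`
  have hcent : ∀ z : G, (∀ q ∈ pcG p M₂, z * q = q * z) → z ∈ M₁ := by
    intro z hz
    apply h.n1 P hP hPM hPN
    refine Helper24.mem_normalizer_of_conj_mem (fun q hq => ?_) (fun q hq => ?_)
    · have e : z * q * z⁻¹ = q := by rw [hz q (hPQ hq)]; group
      rw [e]; exact hq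
    · have e : z⁻¹ * q * z = q := by rw [mul_assoc, ← hz q (hPQ hq)]; group
      rw [e]; exact hq
  have hxQ : ∀ q ∈ pcG p M₂, (x : G) * q = q * x := by
    rintro _ ⟨q, hq, rfl⟩
    have := (mem_centralizer_iff.mp hxc) q hq
    exact (congrArg Subtype.val this).symm
  have hxM₁ : (x : G) ∈ M₁ := hcent _ hxQ
  have hxB₁ : (x : G) ∈ B₁ := by
    apply h.b1.max _ x.2
    intro m hm
    apply hcent
    intro q hq
    have hq' := tw_conj_mem' (le_normalizer_pcG p M₂) hm hq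
    have := hxQ _ hq'
    calc m * x * m⁻¹ * q = m * ((x : G) * (m⁻¹ * q * m)) * m⁻¹ := by group
      _ = m * ((m⁻¹ * q * m) * (x : G)) * m⁻¹ := by rw [this]
      _ = q * (m * x * m⁻¹) := by group
  have hQB := h.pcG_inf_le p
  -- `x` commutes with the elements of `O_p(M₁) ∩ M₂`
  have hcomm : ∀ y ∈ pcG p M₁, y ∈ M₂ → y * (x : G) = x * y := by
    intro y hy hyM₂
    have hc : ⁅y, (x : G)⁆ ∈ pcG p M₁ ⊓ B₁ := by
      rw [commutatorElement_def]
      refine Subgroup.mem_inf.mpr ⟨?_, ?_⟩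
      · have h1 : (x : G) * y⁻¹ * (x : G)⁻¹ ∈ pcG p M₁ :=
          tw_conj_mem (le_normalizer_pcG p M₁) hxM₁ (inv_mem hy)
        have := mul_mem hy h1
        have e : y * ((x : G) * y⁻¹ * (x : G)⁻¹) = y * (x : G) * y⁻¹ * (x : G)⁻¹ := by group
        rwa [e] at this
      · exact mul_mem (tw_conj_mem h.b1.norm hyM₂ hxB₁) (inv_mem hxB₁)
    have hcQ₂ := hQB hc
    have hcx : Commute ⁅y, (x : G)⁆ (x : G) := (hxQ _ hcQ₂).symm
    obtain ⟨k, hk⟩ := (pcG_isPGroup p M₂) ⟨_, hcQ₂⟩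
    have hk' : ⁅y, (x : G)⁆ ^ (p ^ k) = 1 := by
      have := congrArg Subtype.val hk
      simpa using this
    exact Helper47.commute_of_coprime_step (pow_orderOf_eq_one (x : G)) hxo' hcx hk'
  -- `x` centralises `O_p(M₁)`
  have hxQ₁ : ∀ y ∈ pcG p M₁, y * (x : G) = x * y := by
    rcases hP' with hle | ⟨P', hP'ne, hP'1, hP'2, hP'N⟩
    · exact fun y hy => hcomm y hy (hle hy)
    · have hAB : ⁅zpowers (x : G), P'⁆ = ⊥ := by
        rw [commutator_eq_bot_iff_le_centralizer, zpowers_le, mem_centralizer_iff]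
        intro q hq
        exact (hxQ q (hP'2 hq)).symm
      have hcop : (Nat.card (zpowers (x : G))).Coprime p := by
        rw [Nat.card_zpowers]; exact hxo'
      have hmain := Helper24.thompson_AxB (zpowers (x : G)) P'
        ((pcG_isPGroup p M₂).to_le hP'2) hAB hcop (Nat.card (pcG p M₁)) (pcG p M₁) le_rfl
        (pcG_isPGroup p M₁) (zpowers_le.mpr (le_normalizer_pcG p M₁ hxM₁))
        (hP'1.trans le_normalizer) (by
          intro y hy
          obtain ⟨hy1, hy2⟩ := Subgroup.mem_inf.mp hy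
          have hyM₂ : y ∈ M₂ :=
            h.n2 P' hP'ne (hP'2.trans (pcG_le p M₂)) hP'N (centralizer_le_normalizer _ hy2)
          have hyx : Commute y (x : G) := hcomm y hy1 hyM₂
          rw [mem_centralizer_iff]
          rintro _ ⟨n, rfl⟩
          exact ((hyx.zpow_right n).eq).symm)
      intro y hy
      have := mem_centralizer_iff.mp (hmain hy) (x : G) (mem_zpowers _)
      exact this.symm
  refine ⟨⟨(x : G), hxM₁⟩, Subgroup.subset_closure ⟨?_, ?_⟩, rfl⟩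
  · rw [mem_centralizer_iff]
    intro z hz
    apply Subtype.ext
    exact hxQ₁ _ ⟨z, hz, rfl⟩
  · rw [Subgroup.orderOf_mk]; exact hxo'

/-! ### The main theorems -/

/-- If `A₂ ≠ 1 ≠ B₂` then `F*(M₁) = O_p(M₁)` and `F*(M₂) = O_p(M₂)` for a prime `p`. -/
theorem TWPair.fstar [Finite G] (h : TWPair M₁ M₂ A₁ B₁ A₂ B₂) (hA₂ : A₂ ≠ ⊥) (hB₂ : B₂ ≠ ⊥) :
    ∃ p : ℕ, p.Prime ∧ pcG p M₁ ≠ ⊥ ∧ generalizedFittingSubgroup ↥M₁ = pCore p ↥M₁ ∧
      generalizedFittingSubgroup ↥M₂ = pCore p ↥M₂ := by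
  have hE₁ : layer ↥M₁ = ⊥ := h.layer_eq_bot hA₂ hB₂
  have hE₂ : layer ↥M₂ = ⊥ := h.symm.layer_eq_bot hB₂ hA₂
  have hNn : (A₂.subgroupOf M₁).Normal :=
    (normal_subgroupOf_iff_le_normalizer h.a2.le).mpr h.a2.norm
  have hNne : A₂.subgroupOf M₁ ≠ ⊥ := by
    intro e
    apply hA₂
    rw [eq_bot_iff]
    intro a ha
    have : (⟨a, h.a2.le ha⟩ : ↥M₁) ∈ A₂.subgroupOf M₁ := mem_subgroupOf.mpr ha
    rw [e, mem_bot] at this
    rw [mem_bot]
    exact congrArg Subtype.val this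
  obtain ⟨p, hp, hne⟩ := exists_prime_pCore_inf_ne_bot hE₁ (A₂.subgroupOf M₁) hNne
  have : Fact p.Prime := ⟨hp⟩
  have hPne : pcG p M₁ ⊓ A₂ ≠ ⊥ := by
    intro e
    apply hne
    rw [eq_bot_iff]
    intro x hx
    obtain ⟨hx1, hx2⟩ := Subgroup.mem_inf.mp hx
    have : (x : G) ∈ pcG p M₁ ⊓ A₂ := Subgroup.mem_inf.mpr ⟨⟨x, hx1, rfl⟩, mem_subgroupOf.mp hx2⟩
    rw [e, mem_bot] at this
    rw [mem_bot]
    exact Subtype.ext this
  have hPQ : pcG p M₁ ⊓ A₂ ≤ pcG p M₂ :=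
    le_pcG_of_chain ((pcG_isPGroup p M₁).to_le inf_le_left) (inf_le_right.trans h.a2.le') h.b1.le
      (tw_le_normalizer_inf (h.b1.le'.trans (le_normalizer_pcG p M₁)) h.B₁_norm_A₂) h.b1.norm
  have hPN : M₁ ≤ normalizer ((pcG p M₁ ⊓ A₂ : Subgroup G) : Set G) :=
    tw_le_normalizer_inf (le_normalizer_pcG p M₁) h.a2.norm
  have hP' : pcG p M₁ ≤ M₂ ∨ ∃ P' : Subgroup G, P' ≠ ⊥ ∧ P' ≤ pcG p M₁ ∧ P' ≤ pcG p M₂ ∧
      M₂ ≤ normalizer (P' : Set G) := by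
    by_cases hle : pcG p M₁ ≤ M₂
    · exact Or.inl hle
    · right
      have hB₂p : IsPGroup p ↥B₂ := by
        by_contra hB
        exact hle (h.symm.pcG_le_of_not_isPGroup hB)
      exact ⟨B₂, hB₂, le_pcG_of_chain hB₂p h.b2.le' h.a1.le (h.a1.le'.trans h.b2.norm) h.a1.norm,
        le_pcG_of_normal hB₂p h.b2.le h.b2.norm, h.b2.norm⟩
  have hX := h.pRegCentGen_le (pcG p M₁ ⊓ A₂) hPne hPQ (inf_le_left.trans (pcG_le p M₁)) hPN hP'
  have heq : Helper34.pRegCentGen p M₂ = Helper34.pRegCentGen p M₁ :=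
    eq_of_le_of_card_ge hX (h.cx p).le
  have hbot : Helper34.pRegCentGen p M₁ = ⊥ := by
    refine h.key (Helper34.pRegCentGen_le p M₁) (Helper34.le_normalizer_pRegCentGen p M₁) ?_
    rw [← heq]
    exact Helper34.le_normalizer_pRegCentGen p M₂
  have hbot₂ : Helper34.pRegCentGen p M₂ = ⊥ := by rw [heq]; exact hbot
  refine ⟨p, hp, fun e => hPne (by rw [e, bot_inf_eq]), ?_, ?_⟩
  · exact le_antisymm (Helper34.fstar_le_pCore_of_pRegCentGen_eq_bot p hE₁ hbot)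
      ((Helper34.pCore_le_fittingSubgroup p ↥M₁).trans
        (Helper22.fittingSubgroup_le_generalizedFittingSubgroup ↥M₁))
  · exact le_antisymm (Helper34.fstar_le_pCore_of_pRegCentGen_eq_bot p hE₂ hbot₂)
      ((Helper34.pCore_le_fittingSubgroup p ↥M₂).trans
        (Helper22.fittingSubgroup_le_generalizedFittingSubgroup ↥M₂))

/-- **Thompson–Wielandt.** If `A₂ ≠ 1 ≠ B₂` then for one prime `p` both `A₂` and `B₂` are
`p`-groups and `F*(M_i) = O_p(M_i)`. -/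
theorem TWPair.main [Finite G] (h : TWPair M₁ M₂ A₁ B₁ A₂ B₂) (hA₂ : A₂ ≠ ⊥) (hB₂ : B₂ ≠ ⊥) :
    ∃ p : ℕ, p.Prime ∧ IsPGroup p ↥A₂ ∧ IsPGroup p ↥B₂ ∧
      generalizedFittingSubgroup ↥M₁ = pCore p ↥M₁ ∧
      generalizedFittingSubgroup ↥M₂ = pCore p ↥M₂ := by
  obtain ⟨p, hp, hQ, h1, h2⟩ := h.fstar hA₂ hB₂
  have : Fact p.Prime := ⟨hp⟩
  have hQ₂ : pcG p M₂ ≠ ⊥ := by
    intro e
    apply hQ
    have := h.cq p
    rw [e] at this
    exact Subgroup.card_eq_one.mp (by simpa using this)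
  exact ⟨p, hp, h.isPGroup_A₂ hQ, h.symm.isPGroup_A₂ hQ₂, h1, h2⟩

end TWMain

end Cfsg.Agent.Helper95
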