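/-
Helper library of seat helper95: construction of a `TWPair` from two distinct conjugate core-free
maximal subgroups, and descent of `F* = O_p` to normal subgroups.
-/
import Cfsg.Agent.Helper95.TWMain

set_option autoImplicit false

namespace Cfsg.Agent.Helper95

open Cfsg Subgroup

section TWConj

variable {G : Type*} [Group G]

theorem tw_mem_of_conj_mem_map {M : Subgroup G} {g x : G}
    (h : g * x * g⁻¹ ∈ M.map (MulAut.conj g).toMonoidHom) : x ∈ M := by
  obtain ⟨m, hm, e⟩ := h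
  have e' : g * m * g⁻¹ = g * x * g⁻¹ := by simpa using e
  have : m = x := by
    have h1 := congrArg (fun t => g⁻¹ * t * g) e'
    simpa [mul_assoc] using h1
  rw [← this]; exact hm

theorem tw_isCoatom_conj {M : Subgroup G} (hmax : IsCoatom M) (g : G) :
    IsCoatom (M.map (MulAut.conj g).toMonoidHom) := by
  have := (OrderIso.isCoatom_iff (MulAut.conj g).mapSubgroup M).mpr hmax
  simpa [MulEquiv.mapSubgroup_apply] using this

theorem tw_normalCore_conj {M : Subgroup G} (hcore : M.normalCore = ⊥) (g : G) :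
    (M.map (MulAut.conj g).toMonoidHom).normalCore = ⊥ := by
  rw [eq_bot_iff, ← hcore]
  apply normal_le_normalCore.mpr
  intro x hx
  apply tw_mem_of_conj_mem_map (g := g)
  exact (normalCore_le _) ((normalCore_normal _).conj_mem x hx g)

theorem tw_normalizer_le_of_isCoatom {M : Subgroup G} (hmax : IsCoatom M)
    (hcore : M.normalCore = ⊥) (X : Subgroup G) (hX : X ≠ ⊥) (hXM : X ≤ M)
    (hMX : M ≤ normalizer (X : Set G)) : normalizer (X : Set G) ≤ M := by
  rcases hmax.le_iff.mp hMX with h | h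
  · exfalso
    have hn : X.Normal := normalizer_eq_top_iff.mp h
    have : X ≤ M.normalCore := normal_le_normalCore.mpr hXM
    rw [hcore] at this
    exact hX (eq_bot_iff.mpr this)
  · exact h.le

/-- Two distinct conjugate core-free maximal subgroups form a `TWPair`. -/
theorem twPair_of_conj [Finite G] (M₁ M₂ : Subgroup G) (hmax : IsCoatom M₁) (g : G)
    (hconj : M₂ = M₁.map (MulAut.conj g).toMonoidHom) (hne : M₁ ≠ M₂)
    (hcore : M₁.normalCore = ⊥) (A₁ B₁ A₂ B₂ : Subgroup G)
    (hA₁ : A₁ = ((M₁ ⊓ M₂).subgroupOf M₁).normalCore.map M₁.subtype)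
    (hB₁ : B₁ = ((M₁ ⊓ M₂).subgroupOf M₂).normalCore.map M₂.subtype)
    (hA₂ : A₂ = ((A₁ ⊓ B₁).subgroupOf M₁).normalCore.map M₁.subtype)
    (hB₂ : B₂ = ((A₁ ⊓ B₁).subgroupOf M₂).normalCore.map M₂.subtype) :
    TWPair M₁ M₂ A₁ B₁ A₂ B₂ := by
  have hmax₂ : IsCoatom M₂ := by rw [hconj]; exact tw_isCoatom_conj hmax g
  have hcore₂ : M₂.normalCore = ⊥ := by rw [hconj]; exact tw_normalCore_conj hcore g
  have a1 : TWCore M₁ M₂ A₁ := by
    rw [hA₁]
    refine (twCore_normalCore M₁ (M₁ ⊓ M₂)).of_le ?_ ?_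
    · exact (twCore_normalCore M₁ (M₁ ⊓ M₂)).le'.trans inf_le_right
    · intro s hs hh m hm
      exact Subgroup.mem_inf.mpr ⟨M₁.mul_mem (M₁.mul_mem hm hs) (M₁.inv_mem hm), hh m hm⟩
  have b1 : TWCore M₂ M₁ B₁ := by
    rw [hB₁]
    refine (twCore_normalCore M₂ (M₁ ⊓ M₂)).of_le ?_ ?_
    · exact (twCore_normalCore M₂ (M₁ ⊓ M₂)).le'.trans inf_le_left
    · intro s hs hh m hm
      exact Subgroup.mem_inf.mpr ⟨hh m hm, M₂.mul_mem (M₂.mul_mem hm hs) (M₂.inv_mem hm)⟩
  have a2 : TWCore M₁ B₁ A₂ := by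
    rw [hA₂]
    refine (twCore_normalCore M₁ (A₁ ⊓ B₁)).of_le ?_ ?_
    · exact (twCore_normalCore M₁ (A₁ ⊓ B₁)).le'.trans inf_le_right
    · intro s hs hh m hm
      refine Subgroup.mem_inf.mpr ⟨?_, hh m hm⟩
      apply a1.max _ (M₁.mul_mem (M₁.mul_mem hm hs) (M₁.inv_mem hm))
      intro m' hm'
      have := b1.le (hh (m' * m) (M₁.mul_mem hm' hm))
      have e : m' * m * s * (m' * m)⁻¹ = m' * (m * s * m⁻¹) * m'⁻¹ := by group
      rwa [e] at this
  have b2 : TWCore M₂ A₁ B₂ := by
    rw [hB₂]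
    refine (twCore_normalCore M₂ (A₁ ⊓ B₁)).of_le ?_ ?_
    · exact (twCore_normalCore M₂ (A₁ ⊓ B₁)).le'.trans inf_le_left
    · intro s hs hh m hm
      refine Subgroup.mem_inf.mpr ⟨hh m hm, ?_⟩
      apply b1.max _ (M₂.mul_mem (M₂.mul_mem hm hs) (M₂.inv_mem hm))
      intro m' hm'
      have := a1.le (hh (m' * m) (M₂.mul_mem hm' hm))
      have e : m' * m * s * (m' * m)⁻¹ = m' * (m * s * m⁻¹) * m'⁻¹ := by group
      rwa [e] at this
  refine ⟨tw_normalizer_le_of_isCoatom hmax hcore, tw_normalizer_le_of_isCoatom hmax₂ hcore₂,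
    ?_, ?_, a1, b1, a2, b2, ?_, ?_⟩
  · intro hle
    rcases hmax.le_iff.mp hle with h | h
    · exact hmax₂.1 h
    · exact hne h.symm
  · intro hle
    rcases hmax₂.le_iff.mp hle with h | h
    · exact hmax.1 h
    · exact hne h
  · intro p
    rw [card_pcG, card_pcG, hconj, card_pCore_conj]
  · intro p
    rw [hconj, card_pRegCentGen_conj]

/-- If `A ⊴ M` and `F*(M) = O_p(M)` then `F*(A) = O_p(A)`. -/
theorem tw_fstar_eq_pCore_of_normal [Finite G] {p : ℕ} [Fact p.Prime] {A M : Subgroup G}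
    (hAM : A ≤ M) (hMA : M ≤ normalizer (A : Set G))
    (h : generalizedFittingSubgroup ↥M = pCore p ↥M) :
    generalizedFittingSubgroup ↥A = pCore p ↥A := by
  have hn : (A.subgroupOf M).Normal := (normal_subgroupOf_iff_le_normalizer hAM).mpr hMA
  have key : generalizedFittingSubgroup ↥(A.subgroupOf M) = pCore p ↥(A.subgroupOf M) := by
    apply le_antisymm
    · have h1 := Helper22.generalizedFittingSubgroup_map_subtype_le hn.isSubnormal
      rw [h] at h1
      have hp : IsPGroup p ↥((generalizedFittingSubgroup ↥(A.subgroupOf M)).map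
          (A.subgroupOf M).subtype) := (Helper22.pCore_isPGroup p ↥M).to_le h1
      have hp' : IsPGroup p ↥(generalizedFittingSubgroup ↥(A.subgroupOf M)) :=
        hp.of_equiv (equivMapOfInjective _ _ (subtype_injective _)).symm
      exact le_sSup ⟨Helper22.generalizedFittingSubgroup_normal _, hp'⟩
    · exact (Helper34.pCore_le_fittingSubgroup p _).trans
        (Helper22.fittingSubgroup_le_generalizedFittingSubgroup _)
  have e := subgroupOfEquivOfLe hAM
  have hF : (generalizedFittingSubgroup ↥(A.subgroupOf M)).map (e : ↥(A.subgroupOf M) →* ↥A) =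
      generalizedFittingSubgroup ↥A := by
    unfold generalizedFittingSubgroup
    rw [Subgroup.map_sup, Helper22.layer_map_equiv, Helper22.fittingSubgroup_map_equiv]
  rw [← hF, key, Helper22.pCore_map_equiv]

end TWConj

end Cfsg.Agent.Helper95
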